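import Cfsg.Agent.Lib.HeldType.Amalgam.M243.TabF0
import Cfsg.Agent.Lib.HeldType.Amalgam.M243.TabC0
import Cfsg.Agent.Lib.HeldType.Amalgam.M243.TabZ0
import Cfsg.Agent.Lib.HeldType.Amalgam.M243.TabP0
import Cfsg.Agent.Lib.CosetEnum.Defs

/-! Generated certificate. -/

set_option autoImplicit false
set_option maxRecDepth 20000

namespace Cfsg.Lib.HeldType.Amalgam.M243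

open Cfsg.Lib.CosetEnum

/-- Table. -/
def tabF : Tab :=
  (.node 64 tabF_0 (.node 64 tabF_1 tabF_2))

/-- Table. -/
def tabC : Tab :=
  (.node 3328 (.node 1664 (.node 832 (.node 384 (.node 192 (.node 64 tabC_0 (.node 64 tabC_1 tabC_2)) (.node 64 tabC_3 (.node 64 tabC_4 tabC_5))) (.node 192 (.node 64 tabC_6 (.node 64 tabC_7 tabC_8)) (.node 128 (.node 64 tabC_9 tabC_10) (.node 64 tabC_11 tabC_12)))) (.node 384 (.node 192 (.node 64 tabC_13 (.node 64 tabC_14 tabC_15)) (.node 64 tabC_16 (.node 64 tabC_17 tabC_18))) (.node 192 (.node 64 tabC_19 (.node 64 tabC_20 tabC_21)) (.node 128 (.node 64 tabC_22 tabC_23) (.node 64 tabC_24 tabC_25))))) (.node 832 (.node 384 (.node 192 (.node 64 tabC_26 (.node 64 tabC_27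 tabC_28)) (.node 64 tabC_29 (.node 64 tabC_30 tabC_31))) (.node 192 (.node 64 tabC_32 (.node 64 tabC_33 tabC_34)) (.node 128 (.node 64 tabC_35 tabC_36) (.node 64 tabC_37 tabC_38)))) (.node 384 (.node 192 (.node 64 tabC_39 (.node 64 tabC_40 tabC_41)) (.node 64 tabC_42 (.node 64 tabC_43 tabC_44))) (.node 192 (.node 64 tabC_45 (.node 64 tabC_46 tabC_47)) (.node 128 (.node 64 tabC_48 tabC_49) (.node 64 tabC_50 tabC_51)))))) (.node 1664 (.node 832 (.node 384 (.node 192 (.node 64 tabC_52 (.node 64 tabC_53 tabC_54)) (.node 64 tabC_55 (.node 64 tabC_56 tabC_57))) (.node 192 (.node 64 tabC_58 (.node 64 tabC_59 tabC_60)) (.node 128 (.node 64 tabC_61 tabC_62) (.node 64 tabC_63 tabC_64)))) (.node 384 (.node 192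 (.node 64 tabC_65 (.node 64 tabC_66 tabC_67)) (.node 64 tabC_68 (.node 64 tabC_69 tabC_70))) (.node 192 (.node 64 tabC_71 (.node 64 tabC_72 tabC_73)) (.node 128 (.node 64 tabC_74 tabC_75) (.node 64 tabC_76 tabC_77))))) (.node 832 (.node 384 (.node 192 (.node 64 tabC_78 (.node 64 tabC_79 tabC_80)) (.node 64 tabC_81 (.node 64 tabC_82 tabC_83))) (.node 192 (.node 64 tabC_84 (.node 64 tabC_85 tabC_86)) (.node 128 (.node 64 tabC_87 tabC_88) (.node 64 tabC_89 tabC_90)))) (.node 448 (.node 192 (.node 64 tabC_91 (.node 64 tabC_92 tabC_93)) (.node 128 (.node 64 tabC_94 tabC_95) (.node 64 tabC_96 tabC_97))) (.node 192 (.node 64 tabC_98 (.node 64 tabC_99 tabC_100)) (.node 128 (.node 64 tabC_101 tabC_102) (.node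 64 tabC_103 tabC_104)))))))

/-- Table. -/
def tabZ : Tab :=
  (.node 128 (.node 64 tabZ_0 tabZ_1) (.node 64 tabZ_2 tabZ_3))

/-- Table. -/
def tabP : Tab :=
  (.node 128 (.node 64 tabP_0 tabP_1) (.node 64 tabP_2 tabP_3))

/-- The shifts in use. -/
def relWords : List (List Nat) := [
    [2, 3, 1, 2, 3, 1],
    [2, 1, 3, 2, 1, 3],
    [3, 1, 2, 3, 1, 2],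
    [3, 2, 1, 3, 2, 1],
    [1, 2, 3, 1, 2, 3],
    [1, 3, 2, 1, 3, 2],
    [3, 0, 5, 2, 5, 0],
    [0, 5, 2, 5, 0, 3],
    [0, 3, 0, 5, 2, 5],
    [5, 2, 5, 0, 3, 0],
    [5, 0, 3, 0, 5, 2],
    [2, 5, 0, 3, 0, 5],
    [3, 4, 3, 2, 4, 2],
    [3, 2, 4, 2, 3, 4],
    [4, 3, 2, 4, 2, 3],
    [2, 4, 2, 3, 4, 3],
    [2, 3, 4, 3, 2, 4],
    [4, 2, 3, 4, 3, 2],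
    [5, 0, 5, 0, 5, 0],
    [0, 5, 0, 5, 0, 5],
    [7, 3, 7, 3, 7, 3],
    [3, 7, 3, 7, 3, 7],
    [0, 3, 0, 3, 7, 1, 7],
    [0, 7, 1, 7, 3, 0, 3],
    [3, 0, 3, 7, 1, 7, 0],
    [3, 0, 7, 1, 7, 3, 0],
    [0, 3, 7, 1, 7, 0, 3],
    [0, 3, 0, 7, 1, 7, 3],
    [3, 7, 1, 7, 0, 3, 0],
    [3, 0, 3, 0, 7, 1, 7],
    [7, 1, 7, 0, 3, 0, 3],
    [7, 3, 0, 3, 0, 7, 1],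
    [1, 7, 0, 3, 0, 3, 7],
    [1, 7, 3, 0, 3, 0, 7],
    [7, 0, 3, 0, 3, 7, 1],
    [7, 1, 7, 3, 0, 3, 0],
    [1, 0, 1, 0, 1, 0, 1, 0],
    [0, 1, 0, 1, 0, 1, 0, 1],
    [2, 0, 2, 0, 2, 0, 2, 0],
    [0, 2, 0, 2, 0, 2, 0, 2],
    [2, 0, 3, 0, 2, 0, 3, 0],
    [0, 3, 0, 2, 0, 3, 0, 2],
    [0, 2, 0, 3, 0, 2, 0, 3],
    [3, 0, 2, 0, 3, 0, 2, 0],
    [2, 1, 2, 1, 2, 1, 2, 1],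
    [1, 2, 1, 2, 1, 2, 1, 2],
    [2, 1, 4, 1, 2, 1, 4, 1],
    [1, 4, 1, 2, 1, 4, 1, 2],
    [1, 2, 1, 4, 1, 2, 1, 4],
    [4, 1, 2, 1, 4, 1, 2, 1],
    [2, 3, 4, 0, 4, 2, 3, 0],
    [2, 0, 3, 2, 4, 0, 4, 3],
    [3, 4, 0, 4, 2, 3, 0, 2],
    [3, 2, 0, 3, 2, 4, 0, 4],
    [4, 0, 4, 2, 3, 0, 2, 3],
    [4, 3, 2, 0, 3, 2, 4, 0],
    [0, 4, 2, 3, 0, 2, 3, 4],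
    [0, 4, 3, 2, 0, 3, 2, 4],
    [4, 2, 3, 0, 2, 3, 4, 0],
    [4, 0, 4, 3, 2, 0, 3, 2],
    [2, 3, 0, 2, 3, 4, 0, 4],
    [2, 4, 0, 4, 3, 2, 0, 3],
    [3, 0, 2, 3, 4, 0, 4, 2],
    [3, 2, 4, 0, 4, 3, 2, 0],
    [0, 2, 3, 4, 0, 4, 2, 3],
    [0, 3, 2, 4, 0, 4, 3, 2],
    [2, 3, 5, 1, 2, 3, 5, 1],
    [2, 1, 5, 3, 2, 1, 5, 3],
    [3, 5, 1, 2, 3, 5, 1, 2],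
    [3, 2, 1, 5, 3, 2, 1, 5],
    [5, 1, 2, 3, 5, 1, 2, 3],
    [5, 3, 2, 1, 5, 3, 2, 1],
    [1, 2, 3, 5, 1, 2, 3, 5],
    [1, 5, 3, 2, 1, 5, 3, 2],
    [2, 4, 3, 0, 3, 4, 2, 0],
    [2, 0, 2, 4, 3, 0, 3, 4],
    [4, 3, 0, 3, 4, 2, 0, 2],
    [4, 2, 0, 2, 4, 3, 0, 3],
    [3, 0, 3, 4, 2, 0, 2, 4],
    [3, 4, 2, 0, 2, 4, 3, 0],
    [0, 3, 4, 2, 0, 2, 4, 3],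
    [0, 2, 4, 3, 0, 3, 4, 2],
    [2, 5, 2, 1, 3, 5, 3, 1],
    [2, 1, 3, 5, 3, 1, 2, 5],
    [5, 2, 1, 3, 5, 3, 1, 2],
    [1, 3, 5, 3, 1, 2, 5, 2],
    [1, 2, 5, 2, 1, 3, 5, 3],
    [3, 5, 3, 1, 2, 5, 2, 1],
    [3, 1, 2, 5, 2, 1, 3, 5],
    [5, 3, 1, 2, 5, 2, 1, 3],
    [3, 0, 3, 0, 3, 0, 3, 0],
    [0, 3, 0, 3, 0, 3, 0, 3],
    [3, 1, 5, 1, 3, 2, 5, 2],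
    [3, 2, 5, 2, 3, 1, 5, 1],
    [1, 5, 1, 3, 2, 5, 2, 3],
    [1, 3, 2, 5, 2, 3, 1, 5],
    [5, 1, 3, 2, 5, 2, 3, 1],
    [2, 5, 2, 3, 1, 5, 1, 3],
    [2, 3, 1, 5, 1, 3, 2, 5],
    [5, 2, 3, 1, 5, 1, 3, 2],
    [4, 1, 4, 3, 4, 1, 4, 3],
    [4, 3, 4, 1, 4, 3, 4, 1],
    [1, 4, 3, 4, 1, 4, 3, 4],
    [3, 4, 1, 4, 3, 4, 1, 4],
    [4, 2, 4, 2, 4, 2, 4, 2],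
    [2, 4, 2, 4, 2, 4, 2, 4],
    [4, 5, 4, 2, 4, 5, 4, 2],
    [4, 2, 4, 5, 4, 2, 4, 5],
    [5, 4, 2, 4, 5, 4, 2, 4],
    [2, 4, 5, 4, 2, 4, 5, 4],
    [5, 4, 5, 4, 5, 4, 5, 4],
    [4, 5, 4, 5, 4, 5, 4, 5],
    [1, 4, 1, 6, 3, 0, 6, 0],
    [1, 0, 6, 0, 3, 6, 1, 4],
    [4, 1, 6, 3, 0, 6, 0, 1],
    [4, 1, 0, 6, 0, 3, 6, 1],
    [1, 6, 3, 0, 6, 0, 1, 4],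
    [1, 4, 1, 0, 6, 0, 3, 6],
    [6, 3, 0, 6, 0, 1, 4, 1],
    [6, 1, 4, 1, 0, 6, 0, 3],
    [3, 0, 6, 0, 1, 4, 1, 6],
    [3, 6, 1, 4, 1, 0, 6, 0],
    [0, 6, 0, 1, 4, 1, 6, 3],
    [0, 3, 6, 1, 4, 1, 0, 6],
    [6, 0, 1, 4, 1, 6, 3, 0],
    [6, 0, 3, 6, 1, 4, 1, 0],
    [0, 1, 4, 1, 6, 3, 0, 6],
    [0, 6, 0, 3, 6, 1, 4, 1],
    [6, 0, 6, 0, 6, 0, 6, 0],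
    [0, 6, 0, 6, 0, 6, 0, 6],
    [6, 0, 6, 1, 6, 0, 6, 1],
    [6, 1, 6, 0, 6, 1, 6, 0],
    [0, 6, 1, 6, 0, 6, 1, 6],
    [1, 6, 0, 6, 1, 6, 0, 6],
    [3, 1, 3, 1, 3, 1, 3, 1],
    [1, 3, 1, 3, 1, 3, 1, 3],
    [0, 1, 2, 1, 4, 3, 0, 4, 2],
    [0, 2, 4, 0, 3, 4, 1, 2, 1],
    [1, 2, 1, 4, 3, 0, 4, 2, 0],
    [1, 0, 2, 4, 0, 3, 4, 1, 2],
    [2, 1, 4, 3, 0, 4, 2, 0, 1],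
    [2, 1, 0, 2, 4, 0, 3, 4, 1],
    [1, 4, 3, 0, 4, 2, 0, 1, 2],
    [1, 2, 1, 0, 2, 4, 0, 3, 4],
    [4, 3, 0, 4, 2, 0, 1, 2, 1],
    [4, 1, 2, 1, 0, 2, 4, 0, 3],
    [3, 0, 4, 2, 0, 1, 2, 1, 4],
    [3, 4, 1, 2, 1, 0, 2, 4, 0],
    [0, 4, 2, 0, 1, 2, 1, 4, 3],
    [0, 3, 4, 1, 2, 1, 0, 2, 4],
    [4, 2, 0, 1, 2, 1, 4, 3, 0],
    [4, 0, 3, 4, 1, 2, 1, 0, 2],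
    [2, 0, 1, 2, 1, 4, 3, 0, 4],
    [2, 4, 0, 3, 4, 1, 2, 1, 0],
    [1, 2, 4, 1, 4, 1, 2, 4, 3],
    [1, 3, 4, 2, 1, 4, 1, 4, 2],
    [2, 4, 1, 4, 1, 2, 4, 3, 1],
    [2, 1, 3, 4, 2, 1, 4, 1, 4],
    [4, 1, 4, 1, 2, 4, 3, 1, 2],
    [4, 2, 1, 3, 4, 2, 1, 4, 1],
    [1, 4, 1, 2, 4, 3, 1, 2, 4],
    [1, 4, 2, 1, 3, 4, 2, 1, 4],
    [4, 1, 2, 4, 3, 1, 2, 4, 1],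
    [4, 1, 4, 2, 1, 3, 4, 2, 1],
    [1, 2, 4, 3, 1, 2, 4, 1, 4],
    [1, 4, 1, 4, 2, 1, 3, 4, 2],
    [2, 4, 3, 1, 2, 4, 1, 4, 1],
    [2, 1, 4, 1, 4, 2, 1, 3, 4],
    [4, 3, 1, 2, 4, 1, 4, 1, 2],
    [4, 2, 1, 4, 1, 4, 2, 1, 3],
    [3, 1, 2, 4, 1, 4, 1, 2, 4],
    [3, 4, 2, 1, 4, 1, 4, 2, 1],
    [0, 1, 0, 1, 7, 2, 1, 2, 7],
    [0, 7, 2, 1, 2, 7, 1, 0, 1],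
    [1, 0, 1, 7, 2, 1, 2, 7, 0],
    [1, 0, 7, 2, 1, 2, 7, 1, 0],
    [0, 1, 7, 2, 1, 2, 7, 0, 1],
    [0, 1, 0, 7, 2, 1, 2, 7, 1],
    [1, 7, 2, 1, 2, 7, 0, 1, 0],
    [1, 0, 1, 0, 7, 2, 1, 2, 7],
    [7, 2, 1, 2, 7, 0, 1, 0, 1],
    [7, 1, 0, 1, 0, 7, 2, 1, 2],
    [2, 1, 2, 7, 0, 1, 0, 1, 7],
    [2, 7, 1, 0, 1, 0, 7, 2, 1],
    [1, 2, 7, 0, 1, 0, 1, 7, 2],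
    [1, 2, 7, 1, 0, 1, 0, 7, 2],
    [2, 7, 0, 1, 0, 1, 7, 2, 1],
    [2, 1, 2, 7, 1, 0, 1, 0, 7],
    [7, 0, 1, 0, 1, 7, 2, 1, 2],
    [7, 2, 1, 2, 7, 1, 0, 1, 0],
    [1, 0, 2, 0, 5, 1, 5, 0, 2, 0],
    [0, 2, 0, 5, 1, 5, 0, 2, 0, 1],
    [0, 1, 0, 2, 0, 5, 1, 5, 0, 2],
    [2, 0, 5, 1, 5, 0, 2, 0, 1, 0],
    [2, 0, 1, 0, 2, 0, 5, 1, 5, 0],
    [0, 5, 1, 5, 0, 2, 0, 1, 0, 2],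
    [0, 2, 0, 1, 0, 2, 0, 5, 1, 5],
    [5, 1, 5, 0, 2, 0, 1, 0, 2, 0],
    [5, 0, 2, 0, 1, 0, 2, 0, 5, 1],
    [1, 5, 0, 2, 0, 1, 0, 2, 0, 5],
    [2, 0, 5, 4, 5, 3, 5, 4, 5, 0],
    [0, 5, 4, 5, 3, 5, 4, 5, 0, 2],
    [0, 2, 0, 5, 4, 5, 3, 5, 4, 5],
    [5, 4, 5, 3, 5, 4, 5, 0, 2, 0],
    [5, 0, 2, 0, 5, 4, 5, 3, 5, 4],
    [4, 5, 3, 5, 4, 5, 0, 2, 0, 5],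
    [4, 5, 0, 2, 0, 5, 4, 5, 3, 5],
    [5, 3, 5, 4, 5, 0, 2, 0, 5, 4],
    [5, 4, 5, 0, 2, 0, 5, 4, 5, 3],
    [3, 5, 4, 5, 0, 2, 0, 5, 4, 5],
    [1, 3, 0, 3, 4, 6, 3, 6, 4, 0],
    [1, 0, 4, 6, 3, 6, 4, 3, 0, 3],
    [3, 0, 3, 4, 6, 3, 6, 4, 0, 1],
    [3, 1, 0, 4, 6, 3, 6, 4, 3, 0],
    [0, 3, 4, 6, 3, 6, 4, 0, 1, 3],
    [0, 3, 1, 0, 4, 6, 3, 6, 4, 3],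
    [3, 4, 6, 3, 6, 4, 0, 1, 3, 0],
    [3, 0, 3, 1, 0, 4, 6, 3, 6, 4],
    [4, 6, 3, 6, 4, 0, 1, 3, 0, 3],
    [4, 3, 0, 3, 1, 0, 4, 6, 3, 6],
    [6, 3, 6, 4, 0, 1, 3, 0, 3, 4],
    [6, 4, 3, 0, 3, 1, 0, 4, 6, 3],
    [3, 6, 4, 0, 1, 3, 0, 3, 4, 6],
    [3, 6, 4, 3, 0, 3, 1, 0, 4, 6],
    [6, 4, 0, 1, 3, 0, 3, 4, 6, 3],
    [6, 3, 6, 4, 3, 0, 3, 1, 0, 4],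
    [4, 0, 1, 3, 0, 3, 4, 6, 3, 6],
    [4, 6, 3, 6, 4, 3, 0, 3, 1, 0],
    [0, 1, 3, 0, 3, 4, 6, 3, 6, 4],
    [0, 4, 6, 3, 6, 4, 3, 0, 3, 1],
    [1, 3, 6, 4, 0, 4, 6, 3, 1, 0],
    [1, 0, 1, 3, 6, 4, 0, 4, 6, 3],
    [3, 6, 4, 0, 4, 6, 3, 1, 0, 1],
    [3, 1, 0, 1, 3, 6, 4, 0, 4, 6],
    [6, 4, 0, 4, 6, 3, 1, 0, 1, 3],
    [6, 3, 1, 0, 1, 3, 6, 4, 0, 4],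
    [4, 0, 4, 6, 3, 1, 0, 1, 3, 6],
    [4, 6, 3, 1, 0, 1, 3, 6, 4, 0],
    [0, 4, 6, 3, 1, 0, 1, 3, 6, 4],
    [0, 1, 3, 6, 4, 0, 4, 6, 3, 1],
    [2, 6, 1, 6, 2, 0, 6, 4, 6, 0],
    [2, 0, 6, 4, 6, 0, 2, 6, 1, 6],
    [6, 1, 6, 2, 0, 6, 4, 6, 0, 2],
    [6, 2, 0, 6, 4, 6, 0, 2, 6, 1],
    [1, 6, 2, 0, 6, 4, 6, 0, 2, 6],
    [0, 6, 4, 6, 0, 2, 6, 1, 6, 2],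
    [0, 2, 6, 1, 6, 2, 0, 6, 4, 6],
    [6, 4, 6, 0, 2, 6, 1, 6, 2, 0],
    [6, 0, 2, 6, 1, 6, 2, 0, 6, 4],
    [4, 6, 0, 2, 6, 1, 6, 2, 0, 6],
    [4, 6, 4, 6, 4, 0, 6, 4, 6, 0],
    [4, 0, 6, 4, 6, 0, 4, 6, 4, 6],
    [6, 4, 6, 4, 0, 6, 4, 6, 0, 4],
    [6, 4, 0, 6, 4, 6, 0, 4, 6, 4],
    [4, 6, 4, 0, 6, 4, 6, 0, 4, 6],
    [0, 6, 4, 6, 0, 4, 6, 4, 6, 4],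
    [0, 4, 6, 4, 6, 4, 0, 6, 4, 6],
    [6, 4, 6, 0, 4, 6, 4, 6, 4, 0],
    [6, 0, 4, 6, 4, 6, 4, 0, 6, 4],
    [4, 6, 0, 4, 6, 4, 6, 4, 0, 6],
    [1, 2, 1, 2, 3, 0, 1, 3, 1, 0],
    [1, 0, 1, 3, 1, 0, 3, 2, 1, 2],
    [2, 1, 2, 3, 0, 1, 3, 1, 0, 1],
    [2, 1, 0, 1, 3, 1, 0, 3, 2, 1],
    [1, 2, 3, 0, 1, 3, 1, 0, 1, 2],
    [1, 2, 1, 0, 1, 3, 1, 0, 3, 2],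
    [2, 3, 0, 1, 3, 1, 0, 1, 2, 1],
    [2, 1, 2, 1, 0, 1, 3, 1, 0, 3],
    [3, 0, 1, 3, 1, 0, 1, 2, 1, 2],
    [3, 2, 1, 2, 1, 0, 1, 3, 1, 0],
    [0, 1, 3, 1, 0, 1, 2, 1, 2, 3],
    [0, 3, 2, 1, 2, 1, 0, 1, 3, 1],
    [1, 3, 1, 0, 1, 2, 1, 2, 3, 0],
    [1, 0, 3, 2, 1, 2, 1, 0, 1, 3],
    [3, 1, 0, 1, 2, 1, 2, 3, 0, 1],
    [3, 1, 0, 3, 2, 1, 2, 1, 0, 1],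
    [1, 0, 1, 2, 1, 2, 3, 0, 1, 3],
    [1, 3, 1, 0, 3, 2, 1, 2, 1, 0],
    [0, 1, 2, 1, 2, 3, 0, 1, 3, 1],
    [0, 1, 3, 1, 0, 3, 2, 1, 2, 1],
    [0, 1, 0, 2, 5, 0, 1, 3, 0, 1, 5],
    [0, 5, 1, 0, 3, 1, 0, 5, 2, 0, 1],
    [1, 0, 2, 5, 0, 1, 3, 0, 1, 5, 0],
    [1, 0, 5, 1, 0, 3, 1, 0, 5, 2, 0],
    [0, 2, 5, 0, 1, 3, 0, 1, 5, 0, 1],
    [0, 1, 0, 5, 1, 0, 3, 1, 0, 5, 2],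
    [2, 5, 0, 1, 3, 0, 1, 5, 0, 1, 0],
    [2, 0, 1, 0, 5, 1, 0, 3, 1, 0, 5],
    [5, 0, 1, 3, 0, 1, 5, 0, 1, 0, 2],
    [5, 2, 0, 1, 0, 5, 1, 0, 3, 1, 0],
    [0, 1, 3, 0, 1, 5, 0, 1, 0, 2, 5],
    [0, 5, 2, 0, 1, 0, 5, 1, 0, 3, 1],
    [1, 3, 0, 1, 5, 0, 1, 0, 2, 5, 0],
    [1, 0, 5, 2, 0, 1, 0, 5, 1, 0, 3],
    [3, 0, 1, 5, 0, 1, 0, 2, 5, 0, 1],
    [3, 1, 0, 5, 2, 0, 1, 0, 5, 1, 0],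
    [0, 1, 5, 0, 1, 0, 2, 5, 0, 1, 3],
    [0, 3, 1, 0, 5, 2, 0, 1, 0, 5, 1],
    [1, 5, 0, 1, 0, 2, 5, 0, 1, 3, 0],
    [1, 0, 3, 1, 0, 5, 2, 0, 1, 0, 5],
    [5, 0, 1, 0, 2, 5, 0, 1, 3, 0, 1],
    [5, 1, 0, 3, 1, 0, 5, 2, 0, 1, 0],
    [0, 1, 2, 0, 1, 4, 1, 2, 0, 1, 4],
    [0, 4, 1, 0, 2, 1, 4, 1, 0, 2, 1],
    [1, 2, 0, 1, 4, 1, 2, 0, 1, 4, 0],
    [1, 0, 4, 1, 0, 2, 1, 4, 1, 0, 2],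
    [2, 0, 1, 4, 1, 2, 0, 1, 4, 0, 1],
    [2, 1, 0, 4, 1, 0, 2, 1, 4, 1, 0],
    [0, 1, 4, 1, 2, 0, 1, 4, 0, 1, 2],
    [0, 2, 1, 0, 4, 1, 0, 2, 1, 4, 1],
    [1, 4, 1, 2, 0, 1, 4, 0, 1, 2, 0],
    [1, 0, 2, 1, 0, 4, 1, 0, 2, 1, 4],
    [4, 1, 2, 0, 1, 4, 0, 1, 2, 0, 1],
    [4, 1, 0, 2, 1, 0, 4, 1, 0, 2, 1],
    [1, 2, 0, 1, 4, 0, 1, 2, 0, 1, 4],
    [1, 4, 1, 0, 2, 1, 0, 4, 1, 0, 2],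
    [2, 0, 1, 4, 0, 1, 2, 0, 1, 4, 1],
    [2, 1, 4, 1, 0, 2, 1, 0, 4, 1, 0],
    [0, 1, 4, 0, 1, 2, 0, 1, 4, 1, 2],
    [0, 2, 1, 4, 1, 0, 2, 1, 0, 4, 1],
    [1, 4, 0, 1, 2, 0, 1, 4, 1, 2, 0],
    [1, 0, 2, 1, 4, 1, 0, 2, 1, 0, 4],
    [4, 0, 1, 2, 0, 1, 4, 1, 2, 0, 1],
    [4, 1, 0, 2, 1, 4, 1, 0, 2, 1, 0],
    [0, 2, 4, 2, 5, 4, 0, 5, 4, 0, 5],
    [0, 5, 0, 4, 5, 0, 4, 5, 2, 4, 2],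
    [2, 4, 2, 5, 4, 0, 5, 4, 0, 5, 0],
    [2, 0, 5, 0, 4, 5, 0, 4, 5, 2, 4],
    [4, 2, 5, 4, 0, 5, 4, 0, 5, 0, 2],
    [4, 2, 0, 5, 0, 4, 5, 0, 4, 5, 2],
    [2, 5, 4, 0, 5, 4, 0, 5, 0, 2, 4],
    [2, 4, 2, 0, 5, 0, 4, 5, 0, 4, 5],
    [5, 4, 0, 5, 4, 0, 5, 0, 2, 4, 2],
    [5, 2, 4, 2, 0, 5, 0, 4, 5, 0, 4],
    [4, 0, 5, 4, 0, 5, 0, 2, 4, 2, 5],
    [4, 5, 2, 4, 2, 0, 5, 0, 4, 5, 0],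
    [0, 5, 4, 0, 5, 0, 2, 4, 2, 5, 4],
    [0, 4, 5, 2, 4, 2, 0, 5, 0, 4, 5],
    [5, 4, 0, 5, 0, 2, 4, 2, 5, 4, 0],
    [5, 0, 4, 5, 2, 4, 2, 0, 5, 0, 4],
    [4, 0, 5, 0, 2, 4, 2, 5, 4, 0, 5],
    [4, 5, 0, 4, 5, 2, 4, 2, 0, 5, 0],
    [0, 5, 0, 2, 4, 2, 5, 4, 0, 5, 4],
    [0, 4, 5, 0, 4, 5, 2, 4, 2, 0, 5],
    [5, 0, 2, 4, 2, 5, 4, 0, 5, 4, 0],
    [5, 0, 4, 5, 0, 4, 5, 2, 4, 2, 0],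
    [0, 1, 0, 1, 2, 6, 0, 6, 3, 2, 3],
    [0, 3, 2, 3, 6, 0, 6, 2, 1, 0, 1],
    [1, 0, 1, 2, 6, 0, 6, 3, 2, 3, 0],
    [1, 0, 3, 2, 3, 6, 0, 6, 2, 1, 0],
    [0, 1, 2, 6, 0, 6, 3, 2, 3, 0, 1],
    [0, 1, 0, 3, 2, 3, 6, 0, 6, 2, 1],
    [1, 2, 6, 0, 6, 3, 2, 3, 0, 1, 0],
    [1, 0, 1, 0, 3, 2, 3, 6, 0, 6, 2],
    [2, 6, 0, 6, 3, 2, 3, 0, 1, 0, 1],
    [2, 1, 0, 1, 0, 3, 2, 3, 6, 0, 6],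
    [6, 0, 6, 3, 2, 3, 0, 1, 0, 1, 2],
    [6, 2, 1, 0, 1, 0, 3, 2, 3, 6, 0],
    [0, 6, 3, 2, 3, 0, 1, 0, 1, 2, 6],
    [0, 6, 2, 1, 0, 1, 0, 3, 2, 3, 6],
    [6, 3, 2, 3, 0, 1, 0, 1, 2, 6, 0],
    [6, 0, 6, 2, 1, 0, 1, 0, 3, 2, 3],
    [3, 2, 3, 0, 1, 0, 1, 2, 6, 0, 6],
    [3, 6, 0, 6, 2, 1, 0, 1, 0, 3, 2],
    [2, 3, 0, 1, 0, 1, 2, 6, 0, 6, 3],
    [2, 3, 6, 0, 6, 2, 1, 0, 1, 0, 3],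
    [3, 0, 1, 0, 1, 2, 6, 0, 6, 3, 2],
    [3, 2, 3, 6, 0, 6, 2, 1, 0, 1, 0],
    [0, 3, 2, 4, 6, 2, 1, 6, 1, 2, 6],
    [0, 6, 2, 1, 6, 1, 2, 6, 4, 2, 3],
    [3, 2, 4, 6, 2, 1, 6, 1, 2, 6, 0],
    [3, 0, 6, 2, 1, 6, 1, 2, 6, 4, 2],
    [2, 4, 6, 2, 1, 6, 1, 2, 6, 0, 3],
    [2, 3, 0, 6, 2, 1, 6, 1, 2, 6, 4],
    [4, 6, 2, 1, 6, 1, 2, 6, 0, 3, 2],
    [4, 2, 3, 0, 6, 2, 1, 6, 1, 2, 6],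
    [6, 2, 1, 6, 1, 2, 6, 0, 3, 2, 4],
    [6, 4, 2, 3, 0, 6, 2, 1, 6, 1, 2],
    [2, 1, 6, 1, 2, 6, 0, 3, 2, 4, 6],
    [2, 6, 4, 2, 3, 0, 6, 2, 1, 6, 1],
    [1, 6, 1, 2, 6, 0, 3, 2, 4, 6, 2],
    [1, 2, 6, 4, 2, 3, 0, 6, 2, 1, 6],
    [6, 1, 2, 6, 0, 3, 2, 4, 6, 2, 1],
    [6, 1, 2, 6, 4, 2, 3, 0, 6, 2, 1],
    [2, 6, 0, 3, 2, 4, 6, 2, 1, 6, 1],
    [2, 1, 6, 1, 2, 6, 4, 2, 3, 0, 6],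
    [6, 0, 3, 2, 4, 6, 2, 1, 6, 1, 2],
    [6, 2, 1, 6, 1, 2, 6, 4, 2, 3, 0],
    [0, 1, 0, 2, 1, 7, 5, 1, 5, 7, 2],
    [0, 2, 7, 5, 1, 5, 7, 1, 2, 0, 1],
    [1, 0, 2, 1, 7, 5, 1, 5, 7, 2, 0],
    [1, 0, 2, 7, 5, 1, 5, 7, 1, 2, 0],
    [0, 2, 1, 7, 5, 1, 5, 7, 2, 0, 1],
    [0, 1, 0, 2, 7, 5, 1, 5, 7, 1, 2],
    [2, 1, 7, 5, 1, 5, 7, 2, 0, 1, 0],
    [2, 0, 1, 0, 2, 7, 5, 1, 5, 7, 1],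
    [1, 7, 5, 1, 5, 7, 2, 0, 1, 0, 2],
    [1, 2, 0, 1, 0, 2, 7, 5, 1, 5, 7],
    [7, 5, 1, 5, 7, 2, 0, 1, 0, 2, 1],
    [7, 1, 2, 0, 1, 0, 2, 7, 5, 1, 5],
    [5, 1, 5, 7, 2, 0, 1, 0, 2, 1, 7],
    [5, 7, 1, 2, 0, 1, 0, 2, 7, 5, 1],
    [1, 5, 7, 2, 0, 1, 0, 2, 1, 7, 5],
    [1, 5, 7, 1, 2, 0, 1, 0, 2, 7, 5],
    [5, 7, 2, 0, 1, 0, 2, 1, 7, 5, 1],
    [5, 1, 5, 7, 1, 2, 0, 1, 0, 2, 7],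
    [7, 2, 0, 1, 0, 2, 1, 7, 5, 1, 5],
    [7, 5, 1, 5, 7, 1, 2, 0, 1, 0, 2],
    [2, 0, 1, 0, 2, 1, 7, 5, 1, 5, 7],
    [2, 7, 5, 1, 5, 7, 1, 2, 0, 1, 0],
    [0, 1, 2, 1, 0, 3, 7, 0, 5, 0, 7],
    [0, 7, 0, 5, 0, 7, 3, 0, 1, 2, 1],
    [1, 2, 1, 0, 3, 7, 0, 5, 0, 7, 0],
    [1, 0, 7, 0, 5, 0, 7, 3, 0, 1, 2],
    [2, 1, 0, 3, 7, 0, 5, 0, 7, 0, 1],
    [2, 1, 0, 7, 0, 5, 0, 7, 3, 0, 1],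
    [1, 0, 3, 7, 0, 5, 0, 7, 0, 1, 2],
    [1, 2, 1, 0, 7, 0, 5, 0, 7, 3, 0],
    [0, 3, 7, 0, 5, 0, 7, 0, 1, 2, 1],
    [0, 1, 2, 1, 0, 7, 0, 5, 0, 7, 3],
    [3, 7, 0, 5, 0, 7, 0, 1, 2, 1, 0],
    [3, 0, 1, 2, 1, 0, 7, 0, 5, 0, 7],
    [7, 0, 5, 0, 7, 0, 1, 2, 1, 0, 3],
    [7, 3, 0, 1, 2, 1, 0, 7, 0, 5, 0],
    [0, 5, 0, 7, 0, 1, 2, 1, 0, 3, 7],
    [0, 7, 3, 0, 1, 2, 1, 0, 7, 0, 5],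
    [5, 0, 7, 0, 1, 2, 1, 0, 3, 7, 0],
    [5, 0, 7, 3, 0, 1, 2, 1, 0, 7, 0],
    [0, 7, 0, 1, 2, 1, 0, 3, 7, 0, 5],
    [0, 5, 0, 7, 3, 0, 1, 2, 1, 0, 7],
    [7, 0, 1, 2, 1, 0, 3, 7, 0, 5, 0],
    [7, 0, 5, 0, 7, 3, 0, 1, 2, 1, 0],
    [1, 2, 7, 5, 7, 2, 7, 5, 3, 2, 7],
    [1, 7, 2, 3, 5, 7, 2, 7, 5, 7, 2],
    [2, 7, 5, 7, 2, 7, 5, 3, 2, 7, 1],
    [2, 1, 7, 2, 3, 5, 7, 2, 7, 5, 7],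
    [7, 5, 7, 2, 7, 5, 3, 2, 7, 1, 2],
    [7, 2, 1, 7, 2, 3, 5, 7, 2, 7, 5],
    [5, 7, 2, 7, 5, 3, 2, 7, 1, 2, 7],
    [5, 7, 2, 1, 7, 2, 3, 5, 7, 2, 7],
    [7, 2, 7, 5, 3, 2, 7, 1, 2, 7, 5],
    [7, 5, 7, 2, 1, 7, 2, 3, 5, 7, 2],
    [2, 7, 5, 3, 2, 7, 1, 2, 7, 5, 7],
    [2, 7, 5, 7, 2, 1, 7, 2, 3, 5, 7],
    [7, 5, 3, 2, 7, 1, 2, 7, 5, 7, 2],
    [7, 2, 7, 5, 7, 2, 1, 7, 2, 3, 5],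
    [5, 3, 2, 7, 1, 2, 7, 5, 7, 2, 7],
    [5, 7, 2, 7, 5, 7, 2, 1, 7, 2, 3],
    [3, 2, 7, 1, 2, 7, 5, 7, 2, 7, 5],
    [3, 5, 7, 2, 7, 5, 7, 2, 1, 7, 2],
    [2, 7, 1, 2, 7, 5, 7, 2, 7, 5, 3],
    [2, 3, 5, 7, 2, 7, 5, 7, 2, 1, 7],
    [7, 1, 2, 7, 5, 7, 2, 7, 5, 3, 2],
    [7, 2, 3, 5, 7, 2, 7, 5, 7, 2, 1],
    [2, 0, 7, 0, 2, 7, 5, 7, 5, 1, 7, 1],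
    [2, 1, 7, 1, 5, 7, 5, 7, 2, 0, 7, 0],
    [0, 7, 0, 2, 7, 5, 7, 5, 1, 7, 1, 2],
    [0, 2, 1, 7, 1, 5, 7, 5, 7, 2, 0, 7],
    [7, 0, 2, 7, 5, 7, 5, 1, 7, 1, 2, 0],
    [7, 0, 2, 1, 7, 1, 5, 7, 5, 7, 2, 0],
    [0, 2, 7, 5, 7, 5, 1, 7, 1, 2, 0, 7],
    [0, 7, 0, 2, 1, 7, 1, 5, 7, 5, 7, 2],
    [2, 7, 5, 7, 5, 1, 7, 1, 2, 0, 7, 0],
    [2, 0, 7, 0, 2, 1, 7, 1, 5, 7, 5, 7],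
    [7, 5, 7, 5, 1, 7, 1, 2, 0, 7, 0, 2],
    [7, 2, 0, 7, 0, 2, 1, 7, 1, 5, 7, 5],
    [5, 7, 5, 1, 7, 1, 2, 0, 7, 0, 2, 7],
    [5, 7, 2, 0, 7, 0, 2, 1, 7, 1, 5, 7],
    [7, 5, 1, 7, 1, 2, 0, 7, 0, 2, 7, 5],
    [7, 5, 7, 2, 0, 7, 0, 2, 1, 7, 1, 5],
    [5, 1, 7, 1, 2, 0, 7, 0, 2, 7, 5, 7],
    [5, 7, 5, 7, 2, 0, 7, 0, 2, 1, 7, 1],
    [1, 7, 1, 2, 0, 7, 0, 2, 7, 5, 7, 5],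
    [1, 5, 7, 5, 7, 2, 0, 7, 0, 2, 1, 7],
    [7, 1, 2, 0, 7, 0, 2, 7, 5, 7, 5, 1],
    [7, 1, 5, 7, 5, 7, 2, 0, 7, 0, 2, 1],
    [1, 2, 0, 7, 0, 2, 7, 5, 7, 5, 1, 7],
    [1, 7, 1, 5, 7, 5, 7, 2, 0, 7, 0, 2],
    [2, 4, 6, 4, 5, 2, 7, 3, 5, 1, 0, 3],
    [2, 3, 0, 1, 5, 3, 7, 2, 5, 4, 6, 4],
    [4, 6, 4, 5, 2, 7, 3, 5, 1, 0, 3, 2],
    [4, 2, 3, 0, 1, 5, 3, 7, 2, 5, 4, 6],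
    [6, 4, 5, 2, 7, 3, 5, 1, 0, 3, 2, 4],
    [6, 4, 2, 3, 0, 1, 5, 3, 7, 2, 5, 4],
    [4, 5, 2, 7, 3, 5, 1, 0, 3, 2, 4, 6],
    [4, 6, 4, 2, 3, 0, 1, 5, 3, 7, 2, 5],
    [5, 2, 7, 3, 5, 1, 0, 3, 2, 4, 6, 4],
    [5, 4, 6, 4, 2, 3, 0, 1, 5, 3, 7, 2],
    [2, 7, 3, 5, 1, 0, 3, 2, 4, 6, 4, 5],
    [2, 5, 4, 6, 4, 2, 3, 0, 1, 5, 3, 7],
    [7, 3, 5, 1, 0, 3, 2, 4, 6, 4, 5, 2],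
    [7, 2, 5, 4, 6, 4, 2, 3, 0, 1, 5, 3],
    [3, 5, 1, 0, 3, 2, 4, 6, 4, 5, 2, 7],
    [3, 7, 2, 5, 4, 6, 4, 2, 3, 0, 1, 5],
    [5, 1, 0, 3, 2, 4, 6, 4, 5, 2, 7, 3],
    [5, 3, 7, 2, 5, 4, 6, 4, 2, 3, 0, 1],
    [1, 0, 3, 2, 4, 6, 4, 5, 2, 7, 3, 5],
    [1, 5, 3, 7, 2, 5, 4, 6, 4, 2, 3, 0],
    [0, 3, 2, 4, 6, 4, 5, 2, 7, 3, 5, 1],
    [0, 1, 5, 3, 7, 2, 5, 4, 6, 4, 2, 3],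
    [3, 2, 4, 6, 4, 5, 2, 7, 3, 5, 1, 0],
    [3, 0, 1, 5, 3, 7, 2, 5, 4, 6, 4, 2],
    [0, 0],
    [1, 1],
    [2, 2],
    [3, 3],
    [4, 4],
    [5, 5],
    [6, 6],
    [7, 7]]

/-- The subgroup words. -/
def subWords : List (List Nat) := [
    [0],
    [1],
    [2],
    [3],
    [5],
    [7]]

/-- The certificate. -/
def cert : StepCert :=
  ⟨relWords, subWords, [0, 1, 2, 3, 4, 5, 6, 7], tabF, tabC, tabZ, tabP, 2012, 6690, 1771, 8⟩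

end Cfsg.Lib.HeldType.Amalgam.M243
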