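import Cfsg.Agent.Lib.HeldType.Amalgam.M243.Cert

/-! Generated checks. -/

set_option autoImplicit false
set_option maxRecDepth 20000

namespace Cfsg.Lib.HeldType.Amalgam.M243

open Cfsg.Lib.CosetEnum

theorem defs_0 : defsOK tabF 2012 0 = true := by decide +kernel

theorem steps_0 : stepsOK relWords subWords tabF tabC 2012 1500 0 = true := by decide +kernel

theorem steps_1 : stepsOK relWords subWords tabF tabC 2012 1500 1500 = true := by decide +kernel

theorem steps_2 : stepsOK relWords subWords tabF tabC 2012 1500 3000 = true := by decide +kernel

theorem steps_3 : stepsOK relWords subWords tabF tabC 2012 1500 4500 = true := by decide +kernel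

end Cfsg.Lib.HeldType.Amalgam.M243
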